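import Groth.Prelude.Def_Lef
import Groth.Agent.QCohLib.Gen
import Groth.Agent.Formal2VBLib.Dual
import Groth.Agent.ProperClopenLib.CoupleToPair

set_option autoImplicit false
set_option linter.all false

universe u

open CategoryTheory CategoryTheory.Limits AlgebraicGeometry TopologicalSpace Opposite

namespace Groth.Agent.LefConnLib

theorem mem_basicOpen_iff_germ_eq_one {X : Scheme.{u}} {e : Γ(X, ⊤)} (he : IsIdempotentElem e)
    (x : X) : x ∈ X.basicOpen e ↔ X.presheaf.germ ⊤ x trivial e = 1 := by
  rw [Scheme.mem_basicOpen_top]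
  refine ⟨fun h => ?_, fun h => (show IsUnit (X.presheaf.germ ⊤ x trivial e) from h ▸ isUnit_one)⟩
  have h' : IsUnit (X.presheaf.germ ⊤ x trivial e) := h
  exact (h'.mul_eq_left).mp ((he.map _).eq)

theorem germ_eq_zero_of_notMem {X : Scheme.{u}} {e : Γ(X, ⊤)} (he : IsIdempotentElem e)
    {x : X} (hx : x ∉ X.basicOpen e) : X.presheaf.germ ⊤ x trivial e = 0 := by
  rw [Scheme.mem_basicOpen_top] at hx
  set g := X.presheaf.germ ⊤ x trivial e with hg
  have hgg : g * g = g := ((he.map (X.presheaf.germ ⊤ x trivial).hom)).eq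
  rcases IsLocalRing.isUnit_or_isUnit_one_sub_self g with h | h
  · exact absurd h hx
  · have : (1 - g) * g = 0 := by rw [sub_mul, one_mul, hgg, sub_self]
    exact h.mul_right_eq_zero.mp this

theorem idem_eq_of_basicOpen_eq {X : Scheme.{u}} {e e' : Γ(X, ⊤)} (he : IsIdempotentElem e)
    (he' : IsIdempotentElem e') (h : X.basicOpen e = X.basicOpen e') : e = e' := by
  refine TopCat.Presheaf.section_ext X.sheaf ⊤ e e' fun x hx => ?_
  change X.presheaf.germ ⊤ x hx e = X.presheaf.germ ⊤ x hx e'
  by_cases hm : x ∈ X.basicOpen e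
  · rw [(mem_basicOpen_iff_germ_eq_one he x).mp hm,
      (mem_basicOpen_iff_germ_eq_one he' x).mp (h ▸ hm)]
  · rw [germ_eq_zero_of_notMem he hm, germ_eq_zero_of_notMem he' (h ▸ hm)]

theorem isClopen_basicOpen {X : Scheme.{u}} {e : Γ(X, ⊤)} (he : IsIdempotentElem e) :
    IsClopen (X.basicOpen e : Set X) := by
  refine ⟨?_, (X.basicOpen e).2⟩
  have : (X.basicOpen e : Set X)ᶜ = (X.basicOpen (1 - e) : Set X) := by
    ext x
    constructor
    · intro hx
      rw [SetLike.mem_coe, mem_basicOpen_iff_germ_eq_one he.one_sub, map_sub, map_one,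
        germ_eq_zero_of_notMem he hx, sub_zero]
    · intro hx hx'
      rw [SetLike.mem_coe, mem_basicOpen_iff_germ_eq_one he.one_sub, map_sub, map_one,
        (mem_basicOpen_iff_germ_eq_one he x).mp hx', sub_self] at hx
      exact zero_ne_one hx
  exact isOpen_compl_iff.mp (this ▸ (X.basicOpen (1 - e)).2)

variable {U : Scheme.{u}}

theorem unitHom_app_one (M : U.Modules) (x : Γ(M, ⊤)) :
    (QCohLib.unitHom M x).app ⊤ (1 : Γ(U, ⊤)) = x := by
  refine (QCohLib.unitHom_app M x ⊤ 1).trans ?_
  rw [one_smul]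
  change (M.presheaf.map (𝟙 (op ⊤))) x = x
  simp

theorem comp_toSubscheme_eq (K : U.IdealSheafData) (s : Γ(U, ⊤)) :
    QCohLib.unitHom (Coh.structureModule U) s ≫ ClSub.toSubscheme K =
      QCohLib.unitHom (ClSub.quotMod K) (K.subschemeι.appTop s) :=
  QCohLib.app_unitHom_app _ _

theorem pushforwardCongr_app_top {Z : Scheme.{u}} {f g : Z ⟶ U} (e : f = g) (M : Z.Modules)
    (x : Γ(M, ⊤)) : ((Scheme.Modules.pushforwardCongr e).hom.app M).app ⊤ x = x := by
  subst e
  change (M.presheaf.map (𝟙 (op (f ⁻¹ᵁ ⊤)))) x = x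
  simp only [CategoryTheory.Functor.map_id]
  rfl

theorem quotMap_app_top {I J : U.IdealSheafData} (h : I ≤ J) (x : Γ(I.subscheme, ⊤)) :
    (Lef.quotMap h).app ⊤ x = ((Scheme.IdealSheafData.inclusion h).appTop x :) := by
  exact pushforwardCongr_app_top (Scheme.IdealSheafData.inclusion_subschemeι h)
    (Coh.structureModule J.subscheme) ((Scheme.IdealSheafData.inclusion h).appTop x)

/-- Idempotents of all the thickenings lift. -/
theorem exists_idem_lift (J : U.IdealSheafData)
    (hL : Lef.HomToFormalBijective J (Coh.structureModule U))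
    (e : ∀ n : ℕ, Γ((J ^ (n + 1)).subscheme, ⊤))
    (hc : ∀ n, (Scheme.IdealSheafData.inclusion (Lef.pow_succ_le J n)).appTop (e (n + 1)) = e n)
    (he : ∀ n, IsIdempotentElem (e n)) :
    ∃ s : Γ(U, ⊤), IsIdempotentElem s ∧ ∀ n, (J ^ (n + 1)).subschemeι.appTop s = e n := by
  obtain ⟨φ, hφ⟩ := hL.2 (fun n => QCohLib.unitHom (ClSub.quotMod (J ^ (n + 1))) (e n))
    (fun n => (QCohLib.app_unitHom_app _ _).trans
      (congrArg (QCohLib.unitHom _) ((quotMap_app_top _ _).trans (hc n))))
  let s : Γ(U, ⊤) := φ.app ⊤ (1 : Γ(U, ⊤))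
  have hs : ∀ n, (J ^ (n + 1)).subschemeι.appTop s = e n := fun n => by
    have := congrArg (fun ψ => ψ.app ⊤ (1 : Γ(U, ⊤))) (hφ n)
    exact this.trans (unitHom_app_one _ _)
  refine ⟨s, ?_, hs⟩
  have := hL.1 (QCohLib.unitHom _ (s * s)) (QCohLib.unitHom (Coh.structureModule U) s) fun n => by
    rw [comp_toSubscheme_eq, comp_toSubscheme_eq, map_mul, hs n, (he n).eq]
  have h2 := congrArg (fun ψ => ψ.app ⊤ (1 : Γ(U, ⊤))) this
  exact ((unitHom_app_one _ _).symm.trans (h2.trans (unitHom_app_one _ _)))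

theorem eq_zero_of_forall (J : U.IdealSheafData)
    (hL : Lef.HomToFormalBijective J (Coh.structureModule U)) (s : Γ(U, ⊤))
    (hs : ∀ n, (J ^ (n + 1)).subschemeι.appTop s = 0) : s = 0 := by
  have := hL.1 (QCohLib.unitHom _ s) (QCohLib.unitHom (Coh.structureModule U) (0 : Γ(U, ⊤)))
    fun n => by rw [comp_toSubscheme_eq, comp_toSubscheme_eq, hs n, map_zero]
  have h2 := congrArg (fun ψ => ψ.app ⊤ (1 : Γ(U, ⊤))) this
  exact ((unitHom_app_one _ _).symm.trans (h2.trans (unitHom_app_one _ _)))

theorem preimage_basicOpen_coe {Z : Scheme.{u}} (i : Z ⟶ U) (s : Γ(U, ⊤)) :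
    i ⁻¹' (U.basicOpen s : Set U) = (Z.basicOpen (i.appTop s) : Set Z) := by
  rw [← Scheme.preimage_basicOpen_top]
  rfl

/-- A clopen subset missing the support is empty. -/
theorem eq_empty_of_disjoint_support (J : U.IdealSheafData)
    (hL : Lef.HomToFormalBijective J (Coh.structureModule U)) {C : Set U} (hC : IsClopen C)
    (hd : C ∩ (J.support : Set U) = ∅) : C = ∅ := by
  obtain ⟨e, he, hbe⟩ := ProperClopenLib.exists_idempotent_of_isClopen_scheme hC
  have : e = 0 := eq_zero_of_forall J hL e fun n => by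
    refine idem_eq_of_basicOpen_eq (he.map _) IsIdempotentElem.zero ?_
    rw [Scheme.basicOpen_zero]
    refine TopologicalSpace.Opens.ext ?_
    rw [TopologicalSpace.Opens.coe_bot, ← preimage_basicOpen_coe, hbe, Set.preimage_eq_empty_iff,
      Scheme.IdealSheafData.range_subschemeι, Scheme.IdealSheafData.support_pow_succ]
    exact Set.disjoint_iff_inter_eq_empty.mpr hd
  rw [← hbe, this, Scheme.basicOpen_zero]
  rfl

theorem isConnected_support_iff (J : U.IdealSheafData)
    (hL : Lef.HomToFormalBijective J (Coh.structureModule U)) :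
    _root_.IsConnected (J.support : Set U) ↔ ConnectedSpace U := by
  constructor
  · intro hY
    haveI : Nonempty U := ⟨hY.nonempty.some⟩
    haveI : PreconnectedSpace U := by
      rw [preconnectedSpace_iff_clopen]
      intro C hC
      by_cases hCe : (C ∩ (J.support : Set U)) = ∅
      · exact Or.inl (eq_empty_of_disjoint_support J hL hC hCe)
      · refine Or.inr (Set.compl_empty_iff.mp (eq_empty_of_disjoint_support J hL hC.compl ?_))
        have := hY.isPreconnected.subset_isClopen hC
          (by rw [Set.inter_comm]; exact Set.nonempty_iff_ne_empty.mpr hCe)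
        exact Set.eq_empty_of_forall_notMem fun x hx => hx.1 (this hx.2)
    exact ⟨inferInstance⟩
  · intro hU
    have hne : (J.support : Set U).Nonempty := by
      by_contra h
      rw [Set.not_nonempty_iff_eq_empty] at h
      have := eq_empty_of_disjoint_support J hL isClopen_univ (by rw [h]; simp)
      exact (Set.univ_nonempty (α := U)).ne_empty this
    refine ⟨hne, ?_⟩
    rw [isPreconnected_iff_preconnectedSpace, preconnectedSpace_iff_clopen]
    intro C hC
    let W : ∀ n : ℕ, Set (J ^ (n + 1)).subscheme := fun n =>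
      (fun z => (⟨(J ^ (n + 1)).subschemeι z, by
        have : (J ^ (n + 1)).subschemeι z ∈ ((J ^ (n + 1)).support : Set U) :=
          (J ^ (n + 1)).range_subschemeι ▸ Set.mem_range_self z
        rwa [Scheme.IdealSheafData.support_pow_succ] at this⟩ : (J.support : Set U))) ⁻¹' C
    have hW : ∀ n, IsClopen (W n) := fun n =>
      hC.preimage (((J ^ (n + 1)).subschemeι.continuous).subtype_mk _)
    choose e he hbe using fun n => ProperClopenLib.exists_idempotent_of_isClopen_scheme (hW n)
    obtain ⟨s, hs, hse⟩ := exists_idem_lift J hL e (fun n => by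
      refine idem_eq_of_basicOpen_eq ((he _).map _) (he n) (TopologicalSpace.Opens.ext ?_)
      rw [← preimage_basicOpen_coe, hbe (n + 1), hbe n]
      ext z
      have hz : (J ^ (n + 1 + 1)).subschemeι
          ((Scheme.IdealSheafData.inclusion (Lef.pow_succ_le J n)) z) =
          (J ^ (n + 1)).subschemeι z :=
        (Scheme.Hom.comp_apply _ _ z).symm.trans
          (by rw [Scheme.IdealSheafData.inclusion_subschemeι])
      simp only [W, Set.mem_preimage]
      exact Iff.of_eq (congrArg (· ∈ C) (Subtype.ext hz))) he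
    have key : ∀ (y : (J.support : Set U)), y ∈ C ↔ (y : U) ∈ U.basicOpen s := by
      intro y
      obtain ⟨z, hz⟩ : (y : U) ∈ Set.range (J ^ (0 + 1)).subschemeι := by
        rw [Scheme.IdealSheafData.range_subschemeι, Scheme.IdealSheafData.support_pow_succ]
        exact y.2
      have h1 : z ∈ W 0 ↔ y ∈ C := by
        simp only [W, Set.mem_preimage]
        exact Iff.of_eq (congrArg (· ∈ C) (Subtype.ext hz))
      have h3 : (J ^ (0 + 1)).subschemeι ⁻¹' (U.basicOpen s : Set U) = W 0 := by
        rw [preimage_basicOpen_coe, hse 0, hbe 0]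
      have h2 := Set.ext_iff.mp h3 z
      rw [← h1, ← h2, Set.mem_preimage, hz]
      rfl
    rcases isClopen_iff.mp (isClopen_basicOpen hs) with h0 | h1
    · refine Or.inl (Set.eq_empty_of_forall_notMem fun y hy => ?_)
      have := (key y).mp hy
      rw [← SetLike.mem_coe, h0] at this
      exact this
    · refine Or.inr (Set.eq_univ_of_forall fun y => (key y).mpr ?_)
      rw [← SetLike.mem_coe, h1]
      trivial

end Groth.Agent.LefConnLib
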